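import Groth.Prelude.Def_Pi1
import Mathlib.Algebra.Module.CharacterModule
import Mathlib.RingTheory.Flat.Tensor
import Mathlib.RingTheory.Flat.Stability

/-!
# Descent of flatness along universally injective ring maps

If `R → S` is universally injective, restriction of characters `S⋆ → R⋆` has an `R`-linear section. This gives, natural
in the module `X`, a section of the restriction `(S ⊗ X)⋆ → X⋆`; hence for an ideal `I`, with `K` the kernel of
`S ⊗ I → S`, the difference of the two maps from `K` to the kernel of `S ⊗ S ⊗ I → S ⊗ S` is universally injective.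
-/

universe u

open TensorProduct

namespace Groth.Agent.UnivInjDesc

variable {R S : Type u} [CommRing R] [CommRing S] [Algebra R S]

/-- The canonical map `x ↦ 1 ⊗ x`. -/
noncomputable abbrev ins (R S : Type u) [CommRing R] [CommRing S] [Algebra R S] (X : Type u) [AddCommGroup X]
    [Module R X] : X →ₗ[R] S ⊗[R] X :=
  TensorProduct.mk R S X 1

theorem ins_injective (h : Pi1.UnivInjective R S) (X : Type u) [AddCommGroup X] [Module R X] :
    Function.Injective (ins R S X) := by
  intro x y hxy
  have := h X (a₁ := x ⊗ₜ[R] (1 : R)) (a₂ := y ⊗ₜ[R] (1 : R))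
    (by simpa using congrArg (TensorProduct.comm R S X) hxy)
  simpa using congrArg (TensorProduct.rid R X) this

/-- Restriction of characters has a linear section. -/
theorem exists_section (h : Pi1.UnivInjective R S) :
    ∃ e : CharacterModule R →ₗ[R] CharacterModule S,
      ∀ (φ : CharacterModule R) (r : R), e φ (algebraMap R S r) = φ r := by
  obtain ⟨η, hη⟩ := CharacterModule.dual_surjective_of_injective _ (h (CharacterModule R))
    (CharacterModule.uncurry (LinearMap.id : CharacterModule R →ₗ[R] CharacterModule R))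
  exact ⟨CharacterModule.curry η, fun φ r => congr($hη (φ ⊗ₜ[R] r))⟩

variable (e : CharacterModule R →ₗ[R] CharacterModule S)

/-- The functorial extension of characters from `X` to `S ⊗ X` given by a section `e`. -/
noncomputable def ext (X : Type u) [AddCommGroup X] [Module R X] :
    CharacterModule X →ₗ[R] CharacterModule (S ⊗[R] X) :=
  (CharacterModule.congr (TensorProduct.comm R X S)).toLinearMap ∘ₗ CharacterModule.homEquiv.toLinearMap ∘ₗ
    LinearMap.llcomp R X (CharacterModule R) (CharacterModule S) e ∘ₗ CharacterModule.curry ∘ₗ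
    (CharacterModule.congr (TensorProduct.rid R X).symm).toLinearMap

/-- The character `r ↦ φ (r • x)`. -/
noncomputable def at' {X : Type u} [AddCommGroup X] [Module R X] (φ : CharacterModule X) (x : X) :
    CharacterModule R :=
  CharacterModule.dual (LinearMap.toSpanSingleton R X x) φ

theorem at'_apply {X : Type u} [AddCommGroup X] [Module R X] (φ : CharacterModule X) (x : X) (r : R) :
    at' φ x r = φ (r • x) := rfl

theorem ext_tmul {X : Type u} [AddCommGroup X] [Module R X] (φ : CharacterModule X) (s : S) (x : X) :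
    ext e X φ (s ⊗ₜ x) = e (at' φ x) s := by
  have : CharacterModule.curry (CharacterModule.congr (TensorProduct.rid R X).symm φ) x = at' φ x := by
    ext r; exact congrArg φ (TensorProduct.rid_tmul x r)
  rw [← this]
  rfl

theorem ext_nat {X Y : Type u} [AddCommGroup X] [Module R X] [AddCommGroup Y] [Module R Y] (g : X →ₗ[R] Y)
    (φ : CharacterModule Y) (z : S ⊗[R] X) :
    ext e X (CharacterModule.dual g φ) z = ext e Y φ (g.lTensor S z) := by
  induction z using TensorProduct.induction_on with
  | zero => simp
  | tmul s x =>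
    have : at' (R := R) (CharacterModule.dual g φ) x = at' (R := R) φ (g x) := by
      ext r; exact congrArg (fun y : Y => φ y) (map_smul g r x)
    rw [LinearMap.lTensor_tmul, ext_tmul, ext_tmul, this]
  | add a b ha hb => rw [map_add, map_add, map_add, ha, hb]

theorem ext_ins (he : ∀ (φ : CharacterModule R) (r : R), e φ (algebraMap R S r) = φ r) {X : Type u}
    [AddCommGroup X] [Module R X] (φ : CharacterModule X) (x : X) : ext e X φ (ins R S X x) = φ x := by
  show ext e X φ (1 ⊗ₜ x) = φ x
  rw [ext_tmul, ← map_one (algebraMap R S), he, at'_apply, one_smul]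

section ideal

variable (I : Ideal R)

/-- The `S`-linear map `S ⊗ I → S`. -/
noncomputable def toS : S ⊗[R] I →ₗ[S] S :=
  (AlgebraTensorModule.rid R S S).toLinearMap ∘ₗ (I.subtype).baseChange S

theorem toS_tmul (s : S) (i : I) : toS I (s ⊗ₜ i) = (i : R) • s := rfl

/-- The `S`-linear map `S ⊗ (S ⊗ I) → S ⊗ S` (scalars through the first factor). -/
noncomputable def toS2 : S ⊗[R] (S ⊗[R] I) →ₗ[S] S ⊗[R] S :=
  ((toS I).restrictScalars R).baseChange S

theorem toS2_apply (z : S ⊗[R] (S ⊗[R] I)) : toS2 I z = ((toS I).restrictScalars R).lTensor S z := rfl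

/-- The difference of the two maps `S ⊗ I → S ⊗ S ⊗ I`. -/
noncomputable def diff (S : Type u) [CommRing S] [Algebra R S] :
    S ⊗[R] I →ₗ[R] S ⊗[R] (S ⊗[R] I) :=
  ins R S (S ⊗[R] I) - (ins R S I).lTensor S

theorem toS2_diff (k : S ⊗[R] I) (hk : toS (S := S) I k = 0) : toS2 I (diff I S k) = 0 := by
  have h1 : toS2 I (ins R S (S ⊗[R] I) k) = 0 := by
    rw [toS2_apply]
    show (1 : S) ⊗ₜ[R] toS I k = 0
    rw [hk, tmul_zero]
  have h2 : ∀ a : S ⊗[R] I, toS2 I ((ins R S I).lTensor S a) = (toS I a) ⊗ₜ[R] (1 : S) := by
    intro a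
    induction a using TensorProduct.induction_on with
    | zero => simp
    | tmul s i =>
      show s ⊗ₜ[R] ((i : R) • (1 : S)) = ((i : R) • s) ⊗ₜ[R] (1 : S)
      rw [smul_tmul]
    | add a b ha hb => simp [ha, hb, add_tmul]
  rw [diff, LinearMap.sub_apply, map_sub, h1, h2, hk, zero_tmul, sub_zero]

/-- The kernel of `S ⊗ I → S` over `R`. -/
noncomputable abbrev kerS (S : Type u) [CommRing S] [Algebra R S] : Submodule R (S ⊗[R] I) :=
  (toS (S := S) I).ker.restrictScalars R

/-- The kernel of `S ⊗ S ⊗ I → S ⊗ S` over `R`. -/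
noncomputable abbrev kerS2 (S : Type u) [CommRing S] [Algebra R S] : Submodule R (S ⊗[R] (S ⊗[R] I)) :=
  (toS2 (S := S) I).ker.restrictScalars R

noncomputable instance : AddCommGroup ↥(kerS I S) := Submodule.addCommGroup _

noncomputable instance : AddCommGroup ↥(kerS2 I S) := Submodule.addCommGroup _

variable {e}

/-- (S ⊗[R] I) linear right inverse to the character dual of `diff` on the kernels. -/
theorem exists_lift (h : Pi1.UnivInjective R S) {P : Type u} [AddCommGroup P] [Module R P]
    (g : ↥(kerS I S) →ₗ[R] CharacterModule P) :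
    ∃ g' : ↥(kerS2 I S) →ₗ[R] CharacterModule P,
      ∀ k, g' ⟨diff I S k.1, toS2_diff I k.1 k.2⟩ = g k := by
  obtain ⟨e, he⟩ := exists_section h
  let res : CharacterModule (S ⊗[R] I) →ₗ[R] CharacterModule ↥(kerS I S) :=
    CharacterModule.dual (kerS I S).subtype
  have hres : Function.Surjective res :=
    CharacterModule.dual_surjective_of_injective _ (kerS I S).subtype_injective
  let tr : CharacterModule (S ⊗[R] I) →ₗ[R] CharacterModule (kerS2 I S) := CharacterModule.dual (kerS2 I S).subtype ∘ₗ ext e (S ⊗[R] I)
  have htr : LinearMap.ker res ≤ LinearMap.ker tr := by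
    intro φ hφ
    -- `φ` kills the kernel, so it comes from a character of `S`
    let f : (S ⊗[R] I) →ₗ[R] S := (toS I).restrictScalars R
    have hle : (LinearMap.ker f).toAddSubgroup ≤ AddMonoidHom.ker φ := fun a ha => congr($hφ ⟨a, ha⟩)
    let q : CharacterModule ((S ⊗[R] I) ⧸ LinearMap.ker f) := QuotientAddGroup.lift (LinearMap.ker f).toAddSubgroup φ hle
    obtain ⟨ψ, hψ⟩ := CharacterModule.dual_surjective_of_injective
      ((LinearMap.ker f).liftQ f le_rfl) (LinearMap.ker_eq_bot.mp (Submodule.ker_liftQ_eq_bot _ _ _ le_rfl)) q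
    have : φ = CharacterModule.dual f ψ := by
      ext a; exact (congr($hψ (Submodule.Quotient.mk a))).symm
    ext z
    show ext e (S ⊗[R] I) φ z.1 = 0
    rw [this, ext_nat, ← toS2_apply, show toS2 I z.1 = 0 from z.2]
    exact map_zero _
  let r : CharacterModule (kerS I S) →ₗ[R] CharacterModule (kerS2 I S) :=
    (LinearMap.ker res).liftQ tr htr ∘ₗ (res.quotKerEquivOfSurjective hres).symm.toLinearMap
  have hr : ∀ φ, r (res φ) = tr φ := by
    intro φ
    show (LinearMap.ker res).liftQ tr htr ((res.quotKerEquivOfSurjective hres).symm (res φ)) = tr φ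
    rw [← LinearMap.quotKerEquivOfSurjective_apply_mk res hres φ, LinearEquiv.symm_apply_apply]
    rfl
  have hrd : ∀ (c : CharacterModule (kerS I S)) (k : (kerS I S)), r c ⟨diff I S k.1, toS2_diff I k.1 k.2⟩ = c k := by
    intro c k
    obtain ⟨φ, rfl⟩ := hres c
    rw [hr]
    show ext e (S ⊗[R] I) φ (ins R S (S ⊗[R] I) k.1 - (ins R S I).lTensor S k.1) = φ k.1
    rw [map_sub, ext_ins e he, ← ext_nat]
    have hz : ext e I (CharacterModule.dual (ins R S I) φ) k.1 = 0 := by
      obtain ⟨ψ, hψ⟩ := CharacterModule.dual_surjective_of_injective I.subtype Subtype.val_injective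
        (CharacterModule.dual (ins R S I) φ)
      rw [← hψ, ext_nat]
      have : (I.subtype).lTensor S k.1 = 0 :=
        (AlgebraTensorModule.rid R S S).injective (k.2.trans (map_zero _).symm)
      rw [this]; exact map_zero _
    rw [hz, sub_zero]
  let flip1 : P →ₗ[R] CharacterModule (kerS I S) :=
    CharacterModule.curry (CharacterModule.congr (TensorProduct.comm R (kerS I S) P) (CharacterModule.homEquiv (R := R) (A := ↥(kerS I S)) (B := P) g))
  refine ⟨CharacterModule.curry (CharacterModule.congr (TensorProduct.comm R P (kerS2 I S))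
    (CharacterModule.homEquiv (r ∘ₗ flip1))), fun k => ?_⟩
  ext p
  show r (flip1 p) ⟨diff I S k.1, toS2_diff I k.1 k.2⟩ = g k p
  rw [hrd]
  rfl

variable (M : Type u) [AddCommGroup M] [Module R M] [Module.Flat S (S ⊗[R] M)]

theorem rTensor_exact_of_flat {A B C : Type u} [AddCommGroup A] [Module R A] [Module S A] [IsScalarTower R S A]
    [AddCommGroup B] [Module R B] [Module S B] [IsScalarTower R S B]
    [AddCommGroup C] [Module R C] [Module S C] [IsScalarTower R S C]
    (f : A →ₗ[S] B) (g : B →ₗ[S] C) (hfg : Function.Exact f g) :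
    Function.Exact ((f.restrictScalars R).rTensor M) ((g.restrictScalars R).rTensor M) := by
  refine Function.Exact.of_ladder_addEquiv_of_exact (e₁ := (AlgebraTensorModule.cancelBaseChange R S S A M).toAddEquiv)
    (e₂ := (AlgebraTensorModule.cancelBaseChange R S S B M).toAddEquiv)
    (e₃ := (AlgebraTensorModule.cancelBaseChange R S S C M).toAddEquiv) ?_ ?_
    (Module.Flat.rTensor_exact (S ⊗[R] M) hfg)
  all_goals
    ext z
    induction z using TensorProduct.induction_on with
    | zero => simp
    | tmul a x =>
      induction x using TensorProduct.induction_on with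
      | zero => simp
      | tmul s m => simp [AlgebraTensorModule.cancelBaseChange_tmul, TensorProduct.liftAux_tmul]
      | add x y hx hy => simp_all [tmul_add]
    | add x y hx hy => simp_all

theorem exists_rTensor_ker {B C : Type u} [AddCommGroup B] [Module R B] [Module S B] [IsScalarTower R S B]
    [AddCommGroup C] [Module R C] [Module S C] [IsScalarTower R S C] (g : B →ₗ[S] C) (b : B ⊗[R] M)
    (hb : (g.restrictScalars R).rTensor M b = 0) :
    ∃ z : ↥(g.ker.restrictScalars R) ⊗[R] M, (g.ker.restrictScalars R).subtype.rTensor M z = b := by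
  obtain ⟨z, hz⟩ := (rTensor_exact_of_flat (R := R) M g.ker.subtype g (LinearMap.exact_subtype_ker_map g) b).mp hb
  let j : g.ker →ₗ[R] ↥(g.ker.restrictScalars R) :=
    (g.ker.subtype.restrictScalars R).codRestrict _ fun x => x.2
  exact ⟨j.rTensor M z, by rw [← LinearMap.comp_apply, ← LinearMap.rTensor_comp]; exact hz⟩

theorem rTensor_injective_of_flat {A B : Type u} [AddCommGroup A] [Module R A] [Module S A] [IsScalarTower R S A]
    [AddCommGroup B] [Module R B] [Module S B] [IsScalarTower R S B]
    (f : A →ₗ[S] B) (hf : Function.Injective f) :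
    Function.Injective ((f.restrictScalars R).rTensor M) := by
  have := rTensor_exact_of_flat (R := R) M (0 : S →ₗ[S] A) f
    ((LinearMap.exact_zero_iff_injective S f).mpr hf)
  intro a b hab
  obtain ⟨c, hc⟩ := (this (a - b)).mp (by rw [map_sub, hab, sub_self])
  rw [← sub_eq_zero, ← hc]
  simp

theorem rTensor_restrictScalars_injective_of_flat {B : Type u} [AddCommGroup B] [Module R B] [Module S B]
    [IsScalarTower R S B] (p : Submodule S B) :
    Function.Injective ((p.restrictScalars R).subtype.rTensor M) := by
  let i : ↥(p.restrictScalars R) →ₗ[R] p :=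
    { toFun := fun x => ⟨x.1, x.2⟩, map_add' := fun _ _ => rfl, map_smul' := fun _ _ => rfl }
  let j : p →ₗ[R] ↥(p.restrictScalars R) :=
    { toFun := fun x => ⟨x.1, x.2⟩, map_add' := fun _ _ => rfl, map_smul' := fun _ _ => rfl }
  have hji : j ∘ₗ i = LinearMap.id := LinearMap.ext fun _ => rfl
  have hi : Function.Injective (i.rTensor M) := Function.LeftInverse.injective (g := j.rTensor M) fun x => by
    rw [← LinearMap.comp_apply, ← LinearMap.rTensor_comp, hji, LinearMap.rTensor_id, LinearMap.id_apply]
  have := (rTensor_injective_of_flat (R := R) M p.subtype Subtype.val_injective).comp hi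
  rw [← LinearMap.coe_comp, ← LinearMap.rTensor_comp] at this
  exact this

theorem rTensor_subtype_injective (h : Pi1.UnivInjective R S) :
    Function.Injective ((I.subtype).rTensor M) := by
  rw [injective_iff_map_eq_zero]
  intro a ha
  let f : S ⊗[R] I →ₗ[R] S := (toS I).restrictScalars R
  let a1 := (ins R S I).rTensor M a
  have hf1 : f.rTensor M a1 = 0 := by
    have : f ∘ₗ ins R S I = Algebra.linearMap R S ∘ₗ I.subtype := by
      ext i
      show (i : R) • (1 : S) = algebraMap R S i
      rw [Algebra.algebraMap_eq_smul_one]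
    rw [← LinearMap.comp_apply, ← LinearMap.rTensor_comp, this, LinearMap.rTensor_comp, LinearMap.comp_apply, ha,
      map_zero]
  obtain ⟨z', hz'⟩ := exists_rTensor_ker (R := R) M (toS (S := S) I) a1 hf1
  let d : (kerS I S) →ₗ[R] (kerS2 I S) := (diff I S ∘ₗ (kerS I S).subtype).codRestrict (kerS2 I S) fun k => toS2_diff I k.1 k.2
  have hd : d.rTensor M z' = 0 := by
    have hinj : Function.Injective ((kerS2 I S).subtype.rTensor M) :=
      rTensor_restrictScalars_injective_of_flat (R := R) M (toS2 (S := S) I).ker
    apply hinj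
    rw [map_zero, ← LinearMap.comp_apply, ← LinearMap.rTensor_comp, show (kerS2 I S).subtype ∘ₗ d = diff I S ∘ₗ (kerS I S).subtype from rfl,
      LinearMap.rTensor_comp, LinearMap.comp_apply, hz', ← LinearMap.comp_apply, ← LinearMap.rTensor_comp]
    have : diff I S ∘ₗ ins R S I = 0 := by
      ext i
      simp [diff]
    rw [this]; simp
  have hz0 : z' = 0 := by
    apply CharacterModule.eq_zero_of_character_apply
    intro c
    obtain ⟨g', hg'⟩ := exists_lift I h (CharacterModule.homEquiv.symm c)
    have hc : c = CharacterModule.dual (d.rTensor M) (CharacterModule.homEquiv g') := by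
      apply CharacterModule.homEquiv.symm.injective
      ext k m
      exact congr($(hg' k) m).symm
    rw [hc]
    show CharacterModule.homEquiv g' (d.rTensor M z') = 0
    rw [hd, map_zero]
  have ha1 : a1 = 0 := by rw [← hz', hz0, map_zero]
  apply ins_injective h (I ⊗[R] M)
  rw [map_zero]
  apply (TensorProduct.assoc R S I M).symm.injective
  rw [map_zero]
  refine Eq.trans ?_ ha1
  have key : (TensorProduct.assoc R S I M).symm.toLinearMap ∘ₗ ins R S (I ⊗[R] M) = (ins R S I).rTensor M :=
    TensorProduct.ext' fun i m => rfl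
  exact LinearMap.congr_fun key a

end ideal

theorem flat_of_univInjective (h : Pi1.UnivInjective R S) (M : Type u) [AddCommGroup M] [Module R M]
    [Module.Flat S (S ⊗[R] M)] : Module.Flat R M :=
  Module.Flat.iff_rTensor_injective'.mpr fun I => rTensor_subtype_injective I M h

end Groth.Agent.UnivInjDesc
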