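import Groth.Agent.UnivInjDesc.Flat
import Mathlib.RingTheory.Finiteness.Descent
import Mathlib.RingTheory.Etale.Descent
import Mathlib.RingTheory.Flat.Equalizer
import Mathlib.RingTheory.RingHom.Etale

/-!
# Descent of finiteness conditions along universally injective ring maps
-/

universe u

open TensorProduct

namespace Groth.Agent.UnivInjDesc

variable {R S : Type u} [CommRing R] [CommRing S] [Algebra R S] (h : Pi1.UnivInjective R S)
include h

theorem subsingleton_of_tensor (Q : Type u) [AddCommGroup Q] [Module R Q] [Subsingleton (S ⊗[R] Q)] :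
    Subsingleton Q :=
  (ins_injective h Q).subsingleton

theorem surjective_of_lTensor {P M : Type u} [AddCommGroup P] [Module R P] [AddCommGroup M] [Module R M]
    (f : P →ₗ[R] M) (hf : Function.Surjective (f.lTensor S)) : Function.Surjective f := by
  rw [← LinearMap.range_eq_top, ← Submodule.ker_mkQ (LinearMap.range f), LinearMap.ker_eq_top]
  refine LinearMap.ext fun m => ins_injective h _ ?_
  obtain ⟨z, hz⟩ := hf ((1 : S) ⊗ₜ m)
  show (1 : S) ⊗ₜ[R] (LinearMap.range f).mkQ m = (1 : S) ⊗ₜ[R] (0 : M ⧸ LinearMap.range f)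
  rw [← LinearMap.lTensor_tmul, ← hz, ← LinearMap.comp_apply, ← LinearMap.lTensor_comp, f.range_mkQ_comp, tmul_zero]
  simp

theorem finite_of_tensor (M : Type u) [AddCommGroup M] [Module R M] [Module.Finite S (S ⊗[R] M)] :
    Module.Finite R M := by
  obtain ⟨n, s, hs⟩ := Module.Finite.exists_fin (R := S) (M := S ⊗[R] M)
  choose k t m hm using fun i : Fin n ↦ TensorProduct.exists_sum_tmul_eq (s i)
  let f₀ : ((Σ i, Fin (k i)) → R) →ₗ[R] M := (Pi.basisFun R _).constr R fun ⟨i, j⟩ ↦ m i j
  apply Module.Finite.of_surjective f₀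
  apply surjective_of_lTensor h
  have : Function.Surjective (f₀.baseChange S) := by
    rw [← LinearMap.range_eq_top, eq_top_iff, ← hs, Submodule.span_le, Set.range_subset_iff]
    intro i
    use ∑ (j : Fin (k i)), t i j ⊗ₜ Pi.basisFun R _ ⟨i, j⟩
    simp [f₀, -Pi.basisFun_equivFun, -Pi.basisFun_apply, hm i]
  exact this

theorem finitePresentation_of_tensor (M : Type u) [AddCommGroup M] [Module R M]
    [Module.FinitePresentation S (S ⊗[R] M)] : Module.FinitePresentation R M := by
  have := finite_of_tensor h M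
  obtain ⟨n, f, hf⟩ := Module.Finite.exists_fin' R M
  refine Module.finitePresentation_of_surjective f hf ?_
  have hsurj : Function.Surjective (f.baseChange S) := LinearMap.lTensor_surjective S hf
  have hker : LinearMap.ker (f.baseChange S) = (LinearMap.ker f).baseChange S := by
    refine SetLike.ext fun z => ?_
    exact lTensor_exact S (LinearMap.exact_subtype_ker_map f) hf z
  have hfg := Module.FinitePresentation.fg_ker (f.baseChange S) hsurj
  rw [hker, Submodule.baseChange_eq_span, Submodule.fg_span_iff_fg_span_finset_subset] at hfg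
  obtain ⟨F, hF, hspan⟩ := hfg
  classical
  choose g hg hg' using fun x : F => hF x.2
  let K₀ : Submodule R (Fin n → R) := Submodule.span R (Set.range g)
  refine (le_antisymm ?_ ?_ : K₀ = LinearMap.ker f) ▸ Submodule.fg_span (Set.finite_range g)
  · exact Submodule.span_le.mpr (Set.range_subset_iff.mpr hg)
  intro x hx
  rw [← Submodule.Quotient.mk_eq_zero]
  apply ins_injective h
  have h1 : (1 : S) ⊗ₜ[R] x ∈ Submodule.span S (↑F : Set (S ⊗[R] (Fin n → R))) :=
    hspan ▸ Submodule.subset_span ⟨x, hx, rfl⟩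
  have h2 : Submodule.span S (↑F : Set (S ⊗[R] (Fin n → R))) ≤ LinearMap.ker (K₀.mkQ.baseChange S) := by
    rw [Submodule.span_le]
    intro z hz
    have e : _ = z := hg' ⟨z, hz⟩
    rw [← e]
    show (1 : S) ⊗ₜ[R] K₀.mkQ (g ⟨z, hz⟩) = 0
    rw [show K₀.mkQ (g ⟨z, hz⟩) = 0 from (Submodule.Quotient.mk_eq_zero _).mpr (Submodule.subset_span ⟨_, rfl⟩),
      tmul_zero]
  rw [map_zero]
  exact h2 h1

theorem finiteType_of_tensor (A : Type u) [CommRing A] [Algebra R A] [Algebra.FiniteType S (S ⊗[R] A)] :
    Algebra.FiniteType R A := by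
  obtain ⟨s, hs⟩ := Algebra.FiniteType.out (R := S) (A := S ⊗[R] A)
  have (x : s) := TensorProduct.exists_sum_tmul_eq x.1
  choose k t m hm using this
  let f : MvPolynomial (Σ x : s, Fin (k x)) R →ₐ[R] A := MvPolynomial.aeval (fun ⟨x, i⟩ ↦ m x i)
  apply Algebra.FiniteType.of_surjective f
  have hf : Function.Surjective (Algebra.TensorProduct.map (.id S S) f) := by
    rw [← AlgHom.range_eq_top, _root_.eq_top_iff, ← hs, Algebra.adjoin_le_iff]
    intro x hx
    let i : s := ⟨x, hx⟩
    use ∑ (j : Fin (k i)), t i j ⊗ₜ MvPolynomial.X ⟨i, j⟩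
    simp [f, ← hm, i]
  exact surjective_of_lTensor h f.toLinearMap hf

theorem algFinitePresentation_of_tensor (A : Type u) [CommRing A] [Algebra R A]
    [Algebra.FinitePresentation S (S ⊗[R] A)] : Algebra.FinitePresentation R A := by
  have := finiteType_of_tensor h A
  rw [Algebra.FiniteType.iff_quotient_mvPolynomial''] at this
  obtain ⟨n, f, hf⟩ := this
  let fS := Algebra.TensorProduct.map (.id S S) f
  refine .of_surjective hf ?_
  have hkerS : RingHom.ker fS = (RingHom.ker f.toRingHom).map
      (Algebra.TensorProduct.includeRight : MvPolynomial (Fin n) R →ₐ[R] S ⊗[R] MvPolynomial (Fin n) R) :=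
    Algebra.TensorProduct.lTensor_ker f hf
  have hfg : (RingHom.ker fS).FG :=
    Algebra.FinitePresentation.ker_fG_of_surjective _ (Algebra.FiniteType.baseChangeAux_surj S hf)
  rw [hkerS, Ideal.map, Ideal.span] at hfg
  obtain ⟨F, hF, hspan⟩ := (Submodule.fg_span_iff_fg_span_finset_subset _).mp hfg
  classical
  choose g hg hg' using fun x : F => hF x.2
  let J₀ : Ideal (MvPolynomial (Fin n) R) := Ideal.span (Set.range g)
  refine (le_antisymm ?_ ?_ : J₀ = RingHom.ker f.toRingHom) ▸ Submodule.fg_span (Set.finite_range g)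
  · exact Ideal.span_le.mpr (Set.range_subset_iff.mpr hg)
  intro x hx
  rw [← Ideal.Quotient.eq_zero_iff_mem]
  apply ins_injective h
  let q := Algebra.TensorProduct.map (AlgHom.id R S) (Ideal.Quotient.mkₐ R J₀)
  have h1 : (1 : S) ⊗ₜ[R] x ∈ Ideal.span (↑F : Set (S ⊗[R] MvPolynomial (Fin n) R)) :=
    hspan.le (Submodule.subset_span ⟨x, hx, rfl⟩)
  have h2 : Ideal.span (↑F : Set (S ⊗[R] MvPolynomial (Fin n) R)) ≤ RingHom.ker q := by
    rw [Ideal.span_le]
    intro z hz
    have e : _ = z := hg' ⟨z, hz⟩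
    rw [← e]
    show (1 : S) ⊗ₜ[R] Ideal.Quotient.mk J₀ (g ⟨z, hz⟩) = 0
    rw [Ideal.Quotient.eq_zero_iff_mem.mpr (Ideal.subset_span (Set.mem_range_self _)), tmul_zero]
  rw [map_zero]
  exact h2 h1

theorem etale_of_tensor (A : Type u) [CommRing A] [Algebra R A] [Algebra.Etale S (S ⊗[R] A)] :
    Algebra.Etale R A := by
  have := algFinitePresentation_of_tensor h A
  have : Module.Flat R A := flat_of_univInjective h A
  have : Algebra.FormallyUnramified R A := by
    constructor
    let _ : Algebra A (S ⊗[R] A) := Algebra.TensorProduct.rightAlgebra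
    have : Subsingleton (S ⊗[R] Ω[A⁄R]) :=
      (KaehlerDifferential.tensorKaehlerEquivBase R S A (S ⊗[R] A)).subsingleton
    exact subsingleton_of_tensor h _
  exact .of_formallyUnramified_of_flat

end Groth.Agent.UnivInjDesc
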